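import Groth.Agent.Lib.ProCons45.Basic
import Mathlib.RingTheory.Spectrum.Prime.ConstructibleSet
import Mathlib.RingTheory.LocalRing.ResidueField.Ideal
import Mathlib.AlgebraicGeometry.Morphisms.QuasiSeparated

/-!
# Images of spectra and intersections of constructible sets
-/

universe u

open CategoryTheory AlgebraicGeometry Topology
open Groth.Agent.Lib.LimTop.PC Groth.Agent.Lib.ProCons45.Basic

namespace Groth.Agent.Lib.ConsImage

/-- An intersection of constructible subsets of `Spec A` is the image of the spectrum of the product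
of its residue fields. -/
theorem exists_range_eq_sInter {A : Type u} [CommRing A] {S : Set (Set (PrimeSpectrum A))}
    (hS : ∀ s ∈ S, IsConstructible s) :
    ∃ (B : Type u) (_ : CommRing B) (f : A →+* B), Set.range (PrimeSpectrum.comap f) = ⋂₀ S := by
  classical
  let f : A →+* (∀ p : ↥(⋂₀ S), p.1.asIdeal.ResidueField) :=
    Pi.ringHom fun p ↦ algebraMap A p.1.asIdeal.ResidueField
  have hker : ∀ (p : ↥(⋂₀ S)) (a : A), f a p = 0 ↔ a ∈ p.1.asIdeal := fun p a ↦
    Ideal.algebraMap_residueField_eq_zero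
  refine ⟨_, inferInstance, f, Set.Subset.antisymm ?_ ?_⟩
  · rintro _ ⟨Q, rfl⟩ s hs
    by_contra hq
    obtain ⟨T, hT⟩ := PrimeSpectrum.exists_constructibleSetData_iff.2 (hS s hs).compl
    have hq' : PrimeSpectrum.comap f Q ∈ T.toSet := hT ▸ hq
    simp only [PrimeSpectrum.ConstructibleSetData.toSet, Set.mem_iUnion] at hq'
    obtain ⟨C, hC, hCg, hCf⟩ := hq'
    have hdisj : ∀ p : ↥(⋂₀ S), p.1 ∉ C.toSet := fun p hp ↦
      (show p.1 ∈ sᶜ from hT ▸ Set.mem_iUnion₂.2 ⟨C, hC, hp⟩) (p.2 s hs)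
    have hfQ : f C.f ∉ Q.asIdeal := fun h ↦ hCf (by
      simpa [PrimeSpectrum.mem_zeroLocus] using h)
    have hgQ : ∀ i, f (C.g i) ∈ Q.asIdeal := fun i ↦ hCg ⟨i, rfl⟩
    have key : ∀ p : ↥(⋂₀ S), C.f ∉ p.1.asIdeal → ∃ i, C.g i ∉ p.1.asIdeal := by
      intro p hp
      by_contra h
      push Not at h
      exact hdisj p ⟨Set.range_subset_iff.2 h, fun hf ↦ hp (hf rfl)⟩
    choose I hI using key
    let e : ∀ p : ↥(⋂₀ S), p.1.asIdeal.ResidueField := fun p ↦ if C.f ∈ p.1.asIdeal then 1 else 0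
    have he : e * f C.f = 0 := by
      funext p
      by_cases h : C.f ∈ p.1.asIdeal
      · simp [e, h, (hker p _).2 h]
      · simp [e, h]
    have he1 : 1 - e ∈ Q.asIdeal := by
      let c : Fin C.n → ∀ p : ↥(⋂₀ S), p.1.asIdeal.ResidueField := fun i p ↦
        if h : C.f ∈ p.1.asIdeal then 0
        else if I p h = i then (f (C.g i) p)⁻¹ else 0
      have : 1 - e = ∑ i, c i * f (C.g i) := by
        funext p
        simp only [Finset.sum_apply, Pi.mul_apply, Pi.sub_apply, Pi.one_apply]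
        by_cases h : C.f ∈ p.1.asIdeal
        · simp [e, c, h]
        · rw [Finset.sum_eq_single (I p h) (fun i _ hi ↦ by simp [c, h, Ne.symm hi]) (by simp)]
          simp [e, c, h, mt (hker p _).1 (hI p h)]
      rw [this]
      exact Ideal.sum_mem _ fun i _ ↦ Ideal.mul_mem_left _ _ (hgQ i)
    have he0 : e ∈ Q.asIdeal := (Q.isPrime.mem_or_mem (he ▸ Ideal.zero_mem _)).resolve_right hfQ
    exact Q.isPrime.ne_top ((Ideal.eq_top_iff_one _).2 (by simpa using Ideal.add_mem _ he1 he0))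
  · intro p hp
    refine ⟨⟨RingHom.ker (Pi.evalRingHom _ (⟨p, hp⟩ : ↥(⋂₀ S))), RingHom.ker_isPrime _⟩, ?_⟩
    ext a
    exact hker ⟨p, hp⟩ a

/-- A set closed in the constructible topology of a quasi-compact quasi-separated space is an
intersection of constructible sets. -/
theorem exists_eq_sInter {X : Type*} [TopologicalSpace X] [CompactSpace X] [QuasiSeparatedSpace X]
    {E : Set X} (hE : IsClosed[constructibleTopology X] E) :
    ∃ S : Set (Set X), (∀ s ∈ S, IsConstructible s) ∧ E = ⋂₀ S := by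
  refine ⟨{T | IsConstructible T ∧ E ⊆ T}, fun T h ↦ h.1,
    Set.Subset.antisymm (fun a ha T hT ↦ hT.2 ha) fun a ha ↦ by_contra fun hne ↦ ?_⟩
  obtain ⟨C, hC, haC, hCE⟩ := exists_constructible_subset (isOpen_compl_cons.mpr hE) (x := a) hne
  exact ha Cᶜ ⟨hC.compl, fun b hb hbC ↦ hCE hbC hb⟩ haC

theorem exists_eq_sInter_of_quasiCompact {X X' : Scheme.{u}} [CompactSpace X]
    [QuasiSeparatedSpace X] (f : X' ⟶ X) [QuasiCompact f] :
    ∃ S : Set (Set X), (∀ s ∈ S, IsConstructible s) ∧ Set.range f.base = ⋂₀ S := by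
  refine exists_eq_sInter (isClosed_cons_iff_isPC.2 ?_)
  have := isPC_image f (Z := Set.univ) IsPC.univ
  rwa [Set.image_univ] at this

theorem exists_quasiCompact_range_eq {X : Scheme.{u}} [CompactSpace X] [QuasiSeparatedSpace X]
    {S : Set (Set X)} (hS : ∀ s ∈ S, IsConstructible s) :
    ∃ (X' : Scheme.{u}) (f : X' ⟶ X), QuasiCompact f ∧ Set.range f.base = ⋂₀ S := by
  obtain ⟨R, π, hπ⟩ := compactSpace_iff_exists.1 (inferInstance : CompactSpace X)
  have hPC : IsPC (⇑π ⁻¹' ⋂₀ S) := by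
    refine IsPC.preimage π ?_
    rw [Set.sInter_eq_iInter]
    exact IsPC.iInter fun s ↦ IsPC.of_isConstructible (hS _ s.2)
  obtain ⟨T, hT, hTeq⟩ := exists_eq_sInter (X := Spec R) (isClosed_cons_iff_isPC.2 hPC)
  obtain ⟨B, _, φ, hφ⟩ := exists_range_eq_sInter (A := R) hT
  refine ⟨Spec (CommRingCat.of B), Spec.map (CommRingCat.ofHom φ) ≫ π, inferInstance, ?_⟩
  rw [Scheme.Hom.comp_base, TopCat.coe_comp, Set.range_comp,
    show Set.range (Spec.map (CommRingCat.ofHom φ)).base = ⋂₀ T from hφ, ← hTeq,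
    Set.image_preimage_eq _ hπ]

end Groth.Agent.Lib.ConsImage
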